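import Groth.Prelude.Def_CurvBase
import Groth.Agent.VarietyA.SmoothReg
import Groth.Agent.Sga3B.SmoothNear
import Groth.Agent.Grpsch.AbStalk
import Groth.Agent.Localalg.GrpDim
import Groth.Agent.Localalg.GrpSchComp2

/-!
# Smoothness of group schemes over a field can be tested on the local ring at the unit

* `isRegularLocalRing_stalk` : local rings of smooth schemes over a field are regular;
* `mem_smoothLocus_of_rational` : a rational point with regular local ring is smooth;
* `smooth_of_mem` : a group scheme lft over a field which is smooth at the unit is smooth;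
* `smooth_iff_isRegularLocalRing_unit`.
-/

set_option autoImplicit false
universe u
open CategoryTheory CategoryTheory.Limits MonoidalCategory CartesianMonoidalCategory MonObj GrpObj AlgebraicGeometry
open IsLocalRing

namespace K268.UnitSmooth

open Groth.Agent Groth.Agent.VarietyA

variable {k : Type u} [Field k]

theorem isRegularLocalRing_stalk {X : Scheme.{u}} (f : X ⟶ Spec (CommRingCat.of k)) [LocallyOfFinitePresentation f]
    (x : X) (hx : x ∈ f.smoothLocus) : IsRegularLocalRing (X.presheaf.stalk x) := by
  obtain ⟨B, _, _, j, p, _, h, rfl⟩ := SmoothReg.exists_chart_k f x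
  have := SmoothReg.finiteType_of_chart f j h
  rw [SmoothReg.mem_smoothLocus_iff_chart f j h] at hx
  have hp : p.asIdeal.IsPrime := PrimeSpectrum.isPrime (R := B) p
  have h1 := Groth.Agent.CalgC.RegSmooth.isRegularLocalRing_of_isSmoothAt (k := k) p.asIdeal
  exact IsRegularLocalRing.of_ringEquiv (SmoothReg.chartStalkEquiv j p).symm

variable {X : Over (Spec (CommRingCat.of k))}

/-- A rational point with regular local ring is a smooth point. -/
theorem mem_smoothLocus_of_rational [LocallyOfFinitePresentation X.hom]
    (e : 𝟙_ (Over (Spec (CommRingCat.of k))) ⟶ X)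
    (h : IsRegularLocalRing (X.left.presheaf.stalk (e.left (closedPoint k)))) :
    e.left (closedPoint k) ∈ X.hom.smoothLocus := by
  let _ : X.left.Over (Spec (CommRingCat.of k)) := ⟨X.hom⟩
  have hfp : LocallyOfFinitePresentation (X.left ↘ Spec (CommRingCat.of k)) :=
    inferInstanceAs (LocallyOfFinitePresentation X.hom)
  refine SmoothReg.mem_smoothLocus_of_isRegularLocalRing k X.left _ ?_ h
  let _ := Curv2.stalkAlgebra k X.left (e.left (closedPoint k))
  let _ := Curv2.resAlgebra k X.left (e.left (closedPoint k))
  have h1 : (CommRingCat.ofHom (Curv2.stalkMap k X.left (e.left (closedPoint k)))) =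
      Grpsch.AbStalk.kAlg X.hom (e.left (closedPoint k)) := by
    apply Spec.map_injective
    rw [Grpsch.AbStalk.Spec_map_kAlg]
    exact (StalkBC.fromSpecStalk_comp X.hom (e.left (closedPoint k))).symm
  let π : X.left.presheaf.stalk (e.left (closedPoint k)) →ₐ[k] k :=
    { (Grpsch.AbStalk.ev e).hom with
      commutes' := by
        intro c
        have h2 := Grpsch.AbStalk.kAlg_ev e
        have h3 : (Grpsch.AbStalk.ev e).hom ((Grpsch.AbStalk.kAlg X.hom (e.left (closedPoint k))).hom c) = c := by
          rw [← CommRingCat.comp_apply]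
          exact congrArg (fun g : CommRingCat.of k ⟶ CommRingCat.of k => g.hom c) h2
        rw [← h1] at h3
        exact h3 }
  have hb : Function.Bijective (algebraMap k (X.left.residueField (e.left (closedPoint k)))) :=
    ⟨(algebraMap k (X.left.residueField (e.left (closedPoint k)))).injective, fun z => by
      obtain ⟨c, hc⟩ := Grpsch.AbRing.exists_algebraMap_eq π z
      exact ⟨c, hc⟩⟩
  exact Algebra.FormallySmooth.of_equiv (AlgEquiv.ofBijective (Algebra.ofId k _) hb)

/-- A group scheme locally of finite type over a field which is smooth at the unit is smooth. -/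
theorem smooth_of_mem (G : Over (Spec (CommRingCat.of k))) [GrpObj G] [LocallyOfFiniteType G.hom]
    (h : η[G].left (closedPoint k) ∈ G.hom.smoothLocus) : Smooth G.hom := by
  rw [← Scheme.Hom.smoothLocus_eq_top_iff, ← top_le_iff]
  rintro x -
  have hs : Subsingleton (Spec (CommRingCat.of k)) := inferInstanceAs (Subsingleton (PrimeSpectrum k))
  have hfl : Flat G.hom := inferInstance
  refine Sga3B.SmoothNear.mem_smoothLocus G x ?_
  rw [Subsingleton.elim (G.hom x) (closedPoint k)]
  exact h

theorem smooth_iff_isRegularLocalRing_unit (G : Over (Spec (CommRingCat.of k))) [GrpObj G]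
    [LocallyOfFiniteType G.hom] :
    Smooth G.hom ↔ IsRegularLocalRing (G.left.presheaf.stalk (η[G].left (closedPoint k))) := by
  constructor
  · intro h
    refine isRegularLocalRing_stalk G.hom _ ?_
    rw [Scheme.Hom.smoothLocus_eq_top]
    trivial
  · intro h
    exact smooth_of_mem G (mem_smoothLocus_of_rational η[G] h)

theorem smooth_iff_exists_nhd (G : Over (Spec (CommRingCat.of k))) [GrpObj G]
    [LocallyOfFiniteType G.hom] :
    Smooth G.hom ↔ ∃ U : G.left.Opens, η[G].left (closedPoint k) ∈ U ∧ Smooth (U.ι ≫ G.hom) := by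
  constructor
  · intro h
    exact ⟨⊤, trivial, inferInstance⟩
  · rintro ⟨U, hU, hs⟩
    apply smooth_of_mem
    have h1 : U.ι ⁻¹ᵁ G.hom.smoothLocus = (U.ι ≫ G.hom).smoothLocus :=
      Scheme.Hom.preimage_smoothLocus_eq U.ι G.hom
    rw [Scheme.Hom.smoothLocus_eq_top (U.ι ≫ G.hom)] at h1
    have h2 : (⟨_, hU⟩ : U) ∈ U.ι ⁻¹ᵁ G.hom.smoothLocus := by rw [h1]; trivial
    exact h2

/-- the unit point is closed -/
theorem isClosed_unit (G : Over (Spec (CommRingCat.of k))) [GrpObj G] :
    IsClosed ({η[G].left (closedPoint k)} : Set G.left) := by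
  have hsep : IsSeparated G.hom := Localalg.GrpSchComp2.isSeparated_hom G
  have h1 : IsClosedImmersion η[G].left := by
    have h2 : η[G].left ≫ G.hom = 𝟙 _ := Over.w η[G]
    have : IsClosedImmersion (η[G].left ≫ G.hom) := by rw [h2]; infer_instance
    exact IsClosedImmersion.of_comp η[G].left G.hom
  have h3 : Set.range η[G].left = {η[G].left (closedPoint k)} := by
    ext y
    constructor
    · rintro ⟨s, rfl⟩
      have hs : Subsingleton (𝟙_ (Over (Spec (CommRingCat.of k)))).left := inferInstanceAs (Subsingleton (PrimeSpectrum k))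
      exact congrArg η[G].left (Subsingleton.elim s (closedPoint k))
    · rintro rfl
      exact ⟨_, rfl⟩
  rw [← h3]
  exact η[G].left.isClosedEmbedding.isClosed_range

theorem ringKrullDim_stalk_unit (G : Over (Spec (CommRingCat.of k))) [GrpObj G] [LocallyOfFiniteType G.hom] :
    ringKrullDim (G.left.presheaf.stalk (η[G].left (closedPoint k))) = topologicalKrullDim G.left := by
  let _ : GrpObj (Over.mk G.hom) := inferInstanceAs (GrpObj G)
  exact Localalg.GrpDim.ringKrullDim_stalk G.hom _ (isClosed_unit G)

end K268.UnitSmooth
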