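import Groth.Agent.Sga3C.HopfPowIdeal
import Groth.Agent.S3294
import Groth.Agent.Books.AffBridge2
import Mathlib.RingTheory.Filtration
import Mathlib.RingTheory.Jacobson.Ring
import Mathlib.RingTheory.Bialgebra.TensorProduct
import Mathlib.LinearAlgebra.TensorProduct.RightExactness
import Mathlib.FieldTheory.IsAlgClosed.AlgebraicClosure

/-!
# A Hopf ideal contained in all finite-index Hopf ideals and killed by all geometric points is zero

Let `A` be a commutative Hopf algebra of finite type over a field `k`.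
* `powIdeal` : the Frobenius kernels, Hopf ideals of finite codimension in characteristic `p`.
* `eq_bot_of_kills` : over an algebraically closed field, a Hopf ideal killed by all points and
  by an element `u` with `ε u = 1` is zero.
* `eq_bot_of_finite_of_points` : a Hopf ideal `J` such that every `k̄`-point of `A` kills `J` and
  `J` is contained in every Hopf ideal with finite quotient is zero.
-/

set_option autoImplicit false
open WithConv Coalgebra TensorProduct

namespace Groth.Agent.GrpSch.K268.FinSub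

open Groth.Agent.Sga3C.HopfPow Groth.Agent.S3294

universe u v w

section frob

variable (k : Type u) [Field k] (A : Type v) [CommRing A] [HopfAlgebra k A]

/-- the ideal generated by the `q`-th powers of the elements of the augmentation ideal -/
noncomputable def powIdeal (q : ℕ) : Ideal A := Ideal.span ((fun x => x ^ q) '' (augIdeal k A : Set A))

variable {A}

theorem pow_mem_powIdeal {q : ℕ} {x : A} (hx : x ∈ augIdeal k A) : x ^ q ∈ powIdeal k A q :=
  Ideal.subset_span ⟨x, hx, rfl⟩

theorem powIdeal_le (q : ℕ) : powIdeal k A q ≤ augIdeal k A ^ q := by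
  rw [powIdeal, Ideal.span_le]
  rintro _ ⟨x, hx, rfl⟩
  exact Ideal.pow_mem_pow hx q

theorem sub_counit_mem (x : A) : x - algebraMap k A (counit (R := k) x) ∈ augIdeal k A := by
  rw [mem_augIdeal]; simp

/-- `(ε ⊗ ε) (Δ x) = ε x` -/
theorem lift_counit_comul (x : A) :
    (Algebra.TensorProduct.lift (Bialgebra.counitAlgHom k A)
        (Bialgebra.counitAlgHom k A) (fun _ _ => Commute.all _ _) (comul (R := k) x)) =
      counit (R := k) x := by
  have h1 := AlgHom.convMul_apply (toConv (Bialgebra.counitAlgHom k A)) 1 x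
  rw [mul_one] at h1
  have h2 : (1 : WithConv (A →ₐ[k] k)).ofConv = Bialgebra.counitAlgHom k A := by
    rw [AlgHom.convOne_def, ofConv_toConv]
    ext a; rfl
  rw [h2] at h1
  exact h1.symm

variable (p : ℕ) [hp : Fact p.Prime] [CharP k p]

theorem mk_pow_eq (n : ℕ) (y : A) : Ideal.Quotient.mkₐ k (powIdeal k A (p ^ n)) (y ^ p ^ n) =
    algebraMap k _ (counit (R := k) y ^ p ^ n) := by
  have : CharP A p := charP_of_hopf k A p
  have h2 := pow_mem_powIdeal k (q := p ^ n) (sub_counit_mem k y)
  rw [sub_pow_char_pow, ← map_pow (algebraMap k A)] at h2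
  rw [Ideal.Quotient.mkₐ_eq_mk, Ideal.Quotient.eq.2 h2]
  rfl

theorem map_mk_pow (n : ℕ) (t : A ⊗[k] A) :
    Algebra.TensorProduct.map (Ideal.Quotient.mkₐ k (powIdeal k A (p ^ n)))
      (Ideal.Quotient.mkₐ k (powIdeal k A (p ^ n))) (t ^ p ^ n) =
      algebraMap k _ ((Algebra.TensorProduct.lift (Bialgebra.counitAlgHom k A)
        (Bialgebra.counitAlgHom k A) (fun _ _ => Commute.all _ _) t) ^ p ^ n) := by
  have : CharP (A ⊗[k] A) p := charP_of_hopf k (A ⊗[k] A) p
  induction t with
  | zero => simp [hp.out.ne_zero]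
  | tmul x y =>
    rw [Algebra.TensorProduct.tmul_pow, Algebra.TensorProduct.map_tmul, mk_pow_eq, mk_pow_eq,
      Algebra.TensorProduct.lift_tmul, mul_pow, map_mul]
    simp only [Bialgebra.counitAlgHom_apply]
    rw [Algebra.TensorProduct.algebraMap_apply, Algebra.TensorProduct.algebraMap_apply,
      Algebra.TensorProduct.tmul_mul_tmul, mul_one]
    generalize counit (R := k) y ^ p ^ n = c
    rw [Algebra.algebraMap_eq_smul_one c, tmul_smul, smul_tmul', mul_smul_comm, mul_one]
  | add x y hx hy => rw [add_pow_char_pow, map_add, map_add, hx, hy, add_pow_char_pow, map_add]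

theorem isHopfIdeal_powIdeal (n : ℕ) : (powIdeal k A (p ^ n)).IsHopfIdeal k := by
  have hq : p ^ n ≠ 0 := pow_ne_zero _ hp.out.ne_zero
  apply isHopfIdeal_of
  · intro x hx
    have h := Ideal.pow_le_self hq (powIdeal_le k (p ^ n) hx)
    exact h
  · intro x hx
    have hle : powIdeal k A (p ^ n) ≤ RingHom.ker
      ((Algebra.TensorProduct.map (Ideal.Quotient.mkₐ k (powIdeal k A (p ^ n)))
      (Ideal.Quotient.mkₐ k (powIdeal k A (p ^ n)))).comp (Bialgebra.comulAlgHom k A)) := by
      rw [powIdeal, Ideal.span_le]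
      rintro _ ⟨y, hy, rfl⟩
      rw [SetLike.mem_coe, RingHom.mem_ker, AlgHom.comp_apply]
      simp only [map_pow, Bialgebra.comulAlgHom_apply]
      rw [← map_pow]
      refine (map_mk_pow k p n (comul y)).trans ?_
      rw [lift_counit_comul, (mem_augIdeal (K := k)).1 hy, zero_pow hq, map_zero]
      rfl
    exact hle hx
  · intro x hx
    have hle : powIdeal k A (p ^ n) ≤
      (powIdeal k A (p ^ n)).comap (HopfAlgebra.antipodeAlgHom k A) := by
      rw [powIdeal, Ideal.span_le]
      rintro _ ⟨y, hy, rfl⟩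
      rw [SetLike.mem_coe, Ideal.mem_comap]
      simp only [map_pow]
      refine Ideal.subset_span ⟨_, ?_, rfl⟩
      have h := congr($(AlgHom.counitAlgHom_comp_antipodeAlgHom (R := k) (A := A)) y)
      exact h.trans hy
    exact hle hx

theorem finite_quotient_powIdeal [Algebra.FiniteType k A] (n : ℕ) :
    Module.Finite k (A ⧸ powIdeal k A (p ^ n)) := by
  have hint : Algebra.IsIntegral k (A ⧸ powIdeal k A (p ^ n)) := by
    refine ⟨fun x => ?_⟩
    obtain ⟨x, rfl⟩ := Ideal.Quotient.mk_surjective x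
    have h := mk_pow_eq k p n x
    rw [map_pow] at h
    refine IsIntegral.of_pow (n := p ^ n) (pow_pos hp.out.pos _) ?_
    change IsIntegral k ((Ideal.Quotient.mkₐ k _ x) ^ p ^ n)
    rw [h]
    exact isIntegral_algebraMap
  exact Algebra.IsIntegral.finite

omit [CharP k p] in
/-- A (Hopf) ideal contained in all Frobenius kernels is killed by an element outside the
augmentation ideal. -/
theorem exists_kills [IsNoetherianRing A] (J : Ideal A) (hJ : ∀ n, J ≤ powIdeal k A (p ^ n)) :
    ∃ u : A, counit (R := k) u = 1 ∧ ∀ x ∈ J, u * x = 0 := by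
  let N : Ideal A := ⨅ i : ℕ, augIdeal k A ^ i • (⊤ : Ideal A)
  have hJN : J ≤ N := by
    refine le_iInf fun i => ?_
    rw [smul_eq_mul, Ideal.mul_top]
    exact (hJ i).trans ((powIdeal_le k _).trans
      (Ideal.pow_le_pow_right (Nat.lt_pow_self hp.out.one_lt).le))
  have hN : N ≤ augIdeal k A • N := by
    intro x hx
    obtain ⟨r, hr⟩ := (Ideal.mem_iInf_smul_pow_eq_bot_iff (I := augIdeal k A) (M := A) x).1 hx
    rw [← hr]
    exact Submodule.smul_mem_smul r.2 hx
  obtain ⟨r, hr, hr'⟩ := Submodule.exists_sub_one_mem_and_smul_eq_zero_of_fg_of_le_smul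
    (augIdeal k A) N (IsNoetherian.noetherian N) hN
  refine ⟨r, ?_, fun x hx => hr' x (hJN hx)⟩
  rw [mem_augIdeal, map_sub, Bialgebra.counit_one, sub_eq_zero] at hr
  exact hr

end frob

section trans

variable {K : Type u} [Field K] {A : Type v} [CommRing A] [HopfAlgebra K A]

/-- translation by a `K`-point -/
noncomputable def trans (φ : A →ₐ[K] K) : A →ₐ[K] A :=
  (toConv (AlgHom.id K A) * toConv ((Algebra.ofId K A).comp φ)).ofConv

theorem trans_comp_trans (φ ψ : A →ₐ[K] K) (h : toConv φ * toConv ψ = 1) :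
    (trans φ).comp (trans ψ) = AlgHom.id K A := by
  have h1 : (trans φ).comp ((Algebra.ofId K A).comp ψ) = (Algebra.ofId K A).comp ψ := by
    rw [← AlgHom.comp_assoc]
    congr 1
    exact Subsingleton.elim _ _
  have h2 : toConv ((Algebra.ofId K A).comp φ) * toConv ((Algebra.ofId K A).comp ψ) = 1 := by
    have h3 := AlgHom.comp_convMul_distrib (Algebra.ofId K A) (toConv φ) (toConv ψ)
    rw [h] at h3
    apply ofConv_injective
    rw [← h3, AlgHom.convOne_def, AlgHom.convOne_def, ofConv_toConv, ofConv_toConv,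
      ← AlgHom.comp_assoc]
    congr 1
  have h4 := AlgHom.comp_convMul_distrib (trans φ) (toConv (AlgHom.id K A))
    (toConv ((Algebra.ofId K A).comp ψ))
  refine h4.trans ?_
  simp only [AlgHom.comp_id]
  rw [h1, trans, toConv_ofConv, mul_assoc, h2, mul_one]

theorem point_trans (φ ψ : A →ₐ[K] K) : φ.comp (trans ψ) = (toConv φ * toConv ψ).ofConv := by
  rw [trans, AlgHom.comp_convMul_distrib]
  simp only [AlgHom.comp_id]
  rw [← AlgHom.comp_assoc]
  have : φ.comp (Algebra.ofId K A) = AlgHom.id K K := Subsingleton.elim _ _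
  rw [this, AlgHom.id_comp]

theorem trans_mem (J : Ideal A) [J.IsHopfIdeal K] (φ : A →ₐ[K] K) (hφ : ∀ x ∈ J, φ x = 0) (x : A)
    (hx : x ∈ J) : trans φ x ∈ J := by
  let φ' : (A ⧸ J) →ₐ[K] K := Ideal.Quotient.liftₐ J φ hφ
  have h1 := AlgHom.comp_convMul_distrib (Ideal.Quotient.mkₐ K J) (toConv (AlgHom.id K A))
    (toConv ((Algebra.ofId K A).comp φ))
  have h2 : (Ideal.Quotient.mkₐ K J) (trans φ x) = 0 := by
    have h3 := congr($h1 x)
    rw [AlgHom.comp_apply] at h3
    refine h3.trans ?_
    refine (AlgHom.convMul_apply _ _ x).trans ?_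
    simp only [AlgHom.comp_id]
    have h4 : (Algebra.TensorProduct.lift (Ideal.Quotient.mkₐ K J)
        ((Ideal.Quotient.mkₐ K J).comp ((Algebra.ofId K A).comp φ)) (fun _ _ => .all _ _)) =
        (Algebra.TensorProduct.lift (AlgHom.id K (A ⧸ J))
          ((Algebra.ofId K (A ⧸ J)).comp φ') (fun _ _ => .all _ _)).comp
        (Algebra.TensorProduct.map (Ideal.Quotient.mkₐ K J) (Ideal.Quotient.mkₐ K J)) := by
      refine Algebra.TensorProduct.ext ?_ ?_
      · refine AlgHom.ext fun a => ?_
        simp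
      · refine AlgHom.ext fun a => ?_
        simp only [AlgHom.comp_apply, AlgHom.restrictScalars_apply,
          Algebra.TensorProduct.includeRight_apply, Algebra.TensorProduct.lift_tmul, map_one,
          one_mul, Algebra.TensorProduct.map_tmul]
        rfl
    rw [h4, AlgHom.comp_apply]
    have h5 := comul_of_hopfIdeal K J x hx
    rw [Bialgebra.comulAlgHom_apply] at h5
    rw [h5, map_zero]
  exact Ideal.Quotient.eq_zero_iff_mem.1 h2

/-- Over an algebraically closed field, a Hopf ideal killed by all points and by an element `u`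
with `ε u = 1` is zero. -/
theorem eq_bot_of_kills [IsAlgClosed K] [Algebra.FiniteType K A] (J : Ideal A) [J.IsHopfIdeal K]
    (hJ : ∀ φ : A →ₐ[K] K, ∀ x ∈ J, φ x = 0) (u : A) (hu : counit (R := K) u = 1)
    (huJ : ∀ x ∈ J, u * x = 0) : J = ⊥ := by
  by_contra hne
  let 𝔞 : Ideal A := J.annihilator
  have h𝔞 : 𝔞 ≠ ⊤ := by
    intro h
    rw [Submodule.annihilator_eq_top_iff] at h
    exact hne h
  obtain ⟨m, hm, hle⟩ := Ideal.exists_le_maximal 𝔞 h𝔞
  obtain ⟨φ, hφ⟩ := Books.PointsAC.exists_point_of_isMaximal K A m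
  let ψ : A →ₐ[K] K := φ.comp (HopfAlgebra.antipodeAlgHom K A)
  have h1 : toConv ψ * toConv φ = 1 := inv_mul_cancel (toConv φ)
  have h2 : toConv φ * toConv ψ = 1 := mul_inv_cancel (toConv φ)
  have hv : trans ψ u ∈ 𝔞 := by
    rw [Submodule.mem_annihilator]
    intro x hx
    have h3 := congr($(trans_comp_trans ψ φ h1) x)
    rw [AlgHom.comp_apply, AlgHom.id_apply] at h3
    rw [← h3, smul_eq_mul, ← map_mul, huJ _ (trans_mem J φ (hJ φ) x hx), map_zero]
  have h4 : φ (trans ψ u) = 1 := by
    have h5 := congr($(point_trans φ ψ) u)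
    rw [AlgHom.comp_apply, h2] at h5
    rw [h5]
    exact hu
  have h6 : trans ψ u ∈ RingHom.ker φ := by
    rw [hφ]; exact hle hv
  rw [RingHom.mem_ker, h4] at h6
  exact one_ne_zero h6

end trans

section main

variable {k : Type u} [Field k] (K : Type w) [Field K] [Algebra k K] [IsAlgClosed K]
  {A : Type v} [CommRing A] [HopfAlgebra k A] [Algebra.FiniteType k A]

/-- A Hopf ideal killed by all geometric points and by an element `u` with `ε u = 1` is zero. -/
theorem eq_bot_of_kills' (J : Ideal A) [J.IsHopfIdeal k]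
    (hJ : ∀ φ : A →ₐ[k] K, ∀ x ∈ J, φ x = 0) (u : A) (hu : counit (R := k) u = 1)
    (huJ : ∀ x ∈ J, u * x = 0) : J = ⊥ := by
  let B := K ⊗[k] A
  let f : K ⊗[k] A →ₐc[K] K ⊗[k] (A ⧸ J) :=
    Bialgebra.TensorProduct.map (.id K K) (Bialgebra.Quotient.mkBialgHom J)
  have hf : (f : K ⊗[k] A →ₐ[K] K ⊗[k] (A ⧸ J)) =
      Algebra.TensorProduct.map (AlgHom.id K K) (Ideal.Quotient.mkₐ k J) := rfl
  let JK : Ideal (K ⊗[k] A) := RingHom.ker f
  have hJK : JK.IsHopfIdeal K := Books.AffBridge2.isHopfIdeal_ker f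
  have hJK' : JK = J.map (Algebra.TensorProduct.includeRight : A →ₐ[k] K ⊗[k] A) := by
    have h := Algebra.TensorProduct.lTensor_ker (R := k) (A := K) (g := Ideal.Quotient.mkₐ k J)
      (Ideal.Quotient.mkₐ_surjective k J)
    have hker : RingHom.ker (Ideal.Quotient.mkₐ k J) = J := Ideal.mk_ker
    rw [hker] at h
    rw [← h]
    rfl
  have hK : JK = ⊥ := by
    refine eq_bot_of_kills (K := K) JK ?_ (1 ⊗ₜ u) ?_ ?_
    · intro φ x hx
      have hle : JK ≤ RingHom.ker φ := by
        rw [hJK', Ideal.map_le_iff_le_comap]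
        intro y hy
        rw [Ideal.mem_comap, RingHom.mem_ker]
        exact hJ ((φ.restrictScalars k).comp Algebra.TensorProduct.includeRight) y hy
      exact hle hx
    · rw [TensorProduct.counit_tmul, hu]
      simp
    · intro x hx
      have hle : JK ≤ (Ideal.span {((1 : K) ⊗ₜ[k] u)}).annihilator := by
        rw [hJK', Ideal.map_le_iff_le_comap]
        intro y hy
        rw [Ideal.mem_comap, Submodule.mem_annihilator_span_singleton]
        rw [Algebra.TensorProduct.includeRight_apply, smul_eq_mul,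
          Algebra.TensorProduct.tmul_mul_tmul, mul_comm y u, huJ y hy, tmul_zero]
      have := hle hx
      rw [Submodule.mem_annihilator_span_singleton, smul_eq_mul] at this
      rw [mul_comm]; exact this
  rw [eq_bot_iff]
  intro x hx
  have h1 : (Algebra.TensorProduct.includeRight : A →ₐ[k] K ⊗[k] A) x ∈ JK := by
    rw [hJK']; exact Ideal.mem_map_of_mem _ hx
  rw [hK, Ideal.mem_bot] at h1
  have hinj : Function.Injective (Algebra.TensorProduct.includeRight : A →ₐ[k] K ⊗[k] A) :=
    Algebra.TensorProduct.includeRight_injective (algebraMap k K).injective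
  rw [Ideal.mem_bot]
  exact hinj (by rw [h1, map_zero])

omit [HopfAlgebra k A] in
theorem le_nilradical_of_points [Algebra k A] [Algebra.FiniteType k A] (J : Ideal A)
    (hJ : ∀ φ : A →ₐ[k] K, ∀ x ∈ J, φ x = 0) : J ≤ nilradical A := by
  have hJac : IsJacobsonRing A := isJacobsonRing_of_finiteType (A := k) (B := A)
  rw [nilradical, Ideal.radical_eq_jacobson, Ideal.jacobson, le_sInf_iff]
  rintro m ⟨-, hm⟩ x hx
  let _ : Field (A ⧸ m) := Ideal.Quotient.field m
  have : Module.Finite k (A ⧸ m) := by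
    have : Algebra.FiniteType k (A ⧸ m) := inferInstance
    exact finite_of_finite_type_of_isJacobsonRing k (A ⧸ m)
  let g : (A ⧸ m) →ₐ[k] K := IsAlgClosed.lift
  have h1 := hJ (g.comp (Ideal.Quotient.mkₐ k m)) x hx
  rw [AlgHom.comp_apply] at h1
  have h2 := (map_eq_zero g).1 h1
  exact Ideal.Quotient.eq_zero_iff_mem.1 h2

/-- A Hopf ideal killed by all geometric points and contained in every Hopf ideal of finite
codimension is zero (in characteristic zero we assume that `A` is reduced, which is Cartier's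
theorem). -/
theorem eq_bot_of_finite_of_points (hred : CharZero k → IsReduced A) (J : Ideal A)
    [J.IsHopfIdeal k] (hJ : ∀ φ : A →ₐ[k] K, ∀ x ∈ J, φ x = 0)
    (hfin : ∀ I : Ideal A, I.IsHopfIdeal k → Module.Finite k (A ⧸ I) → J ≤ I) : J = ⊥ := by
  obtain h0 | ⟨p, hp, hcp⟩ := CharP.exists' k
  · have := hred h0
    rw [eq_bot_iff]
    exact (le_nilradical_of_points K J hJ).trans (nilradical_eq_zero A).le
  · have hN : IsNoetherianRing A := Algebra.FiniteType.isNoetherianRing k A
    obtain ⟨u, hu, huJ⟩ := exists_kills k p J (fun n => hfin _ (isHopfIdeal_powIdeal k p n)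
      (finite_quotient_powIdeal k p n))
    exact eq_bot_of_kills' K J hJ u hu huJ

end main

end Groth.Agent.GrpSch.K268.FinSub
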