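import Groth.Agent.S2188
import Groth.Agent.S0563
import Groth.Agent.Synt.K562.FieldCI3
import Mathlib.RingTheory.Smooth.Basic
import Mathlib.RingTheory.Etale.Kaehler
import Mathlib.RingTheory.Regular.RegularSequence

/-!
# Complete intersections from freeness of `H₁(L)` and `Ω`

If `A` is a local ring essentially of finite type over a field `k` such that `H₁(L_{A/k})` and `Ω_{A/k}` are
projective over `A`, then `A` is a complete intersection.
-/

set_option autoImplicit false
set_option linter.style.haveILetI false
universe u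
open TensorProduct Algebra

namespace K268.FreeCI

/-- In an exact sequence `0 → H → C → S → K → 0` with `H`, `S`, `K` projective, `C` is projective. -/
theorem projective_mid {A H C S K : Type*} [CommRing A] [AddCommGroup H] [AddCommGroup C]
    [AddCommGroup S] [AddCommGroup K] [Module A H] [Module A C] [Module A S] [Module A K]
    (i : H →ₗ[A] C) (d : C →ₗ[A] S) (p : S →ₗ[A] K) (hi : Function.Injective i)
    (hid : Function.Exact i d) (hdp : Function.Exact d p) (hp : Function.Surjective p)
    [Module.Projective A K] [Module.Projective A S] [Module.Projective A H] :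
    Module.Projective A C := by
  obtain ⟨s, hs⟩ := Module.projective_lifting_property p LinearMap.id hp
  have hs' : ∀ x, p (s x) = x := fun x => LinearMap.congr_fun hs x
  let N : Submodule A S := LinearMap.ker p
  let ρ : S →ₗ[A] N := LinearMap.codRestrict N (LinearMap.id - s ∘ₗ p) (fun x => by
    rw [LinearMap.mem_ker]; simp [hs'])
  haveI : Module.Projective A N := by
    refine Module.Projective.of_split N.subtype ρ ?_
    ext x
    have : p x = 0 := x.2
    simp [ρ, this]
  let d' : C →ₗ[A] N := LinearMap.codRestrict N d (fun x => (hdp (d x)).2 ⟨x, rfl⟩)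
  have hd' : Function.Surjective d' := by
    rintro ⟨x, hx⟩
    obtain ⟨y, hy⟩ := (hdp x).1 hx
    exact ⟨y, Subtype.ext hy⟩
  obtain ⟨σ, hσ⟩ := Module.projective_lifting_property d' LinearMap.id hd'
  have hσ' : ∀ x, d' (σ x) = x := fun x => LinearMap.congr_fun hσ x
  let Φ : (H × N) →ₗ[A] C := i.coprod σ
  have hd'i : ∀ h, d' (i h) = 0 := fun h => Subtype.ext ((hid _).2 ⟨h, rfl⟩)
  have hΦ : Function.Bijective Φ := by
    constructor
    · rw [injective_iff_map_eq_zero]
      rintro ⟨h, x⟩ hx
      have h1 : i h + σ x = 0 := by simpa [Φ] using hx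
      have h2 : d' (i h + σ x) = 0 := by rw [h1, map_zero]
      rw [map_add, hd'i, hσ', zero_add] at h2
      rw [h2, map_zero, add_zero] at h1
      have h3 : h = 0 := hi (by rw [h1, map_zero])
      rw [h2, h3]; rfl
    · intro c
      have h1 : d (c - σ (d' c)) = 0 := by
        have h2 : d' (c - σ (d' c)) = 0 := by rw [map_sub, hσ', sub_self]
        exact congrArg Subtype.val h2
      obtain ⟨h, hh⟩ := (hid _).1 h1
      exact ⟨(h, d' c), by simp [Φ, hh]⟩
  exact Module.Projective.of_equiv (LinearEquiv.ofBijective Φ hΦ)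

/-- The kernel of a surjection from a regular local ring `R` onto a local ring `A` with free conormal module
is generated by a regular sequence. -/
theorem isCI_of_projective_cotangent {R A : Type u} [CommRing R] [CommRing A] [IsRegularLocalRing R]
    [IsLocalRing A] (φ : R →+* A) (hφ : Function.Surjective φ)
    (h : Module.Projective (R ⧸ RingHom.ker φ) (RingHom.ker φ).Cotangent) :
    Pi1.IsCompleteIntersection A := by
  rw [Groth.Agent.S2842.isCompleteIntersection_iff_of_surjective φ hφ]
  let I := RingHom.ker φ
  have hI : I ≠ ⊤ := RingHom.ker_ne_top φ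
  obtain ⟨d, hd⟩ : ∃ d : ℕ, ringKrullDim R = d := by
    have h1 := ringKrullDim_ne_top (R := R)
    have h2 := ringKrullDim_ne_bot (R := R)
    obtain ⟨m, hm⟩ := WithBot.ne_bot_iff_exists.mp h2
    rw [← hm] at h1 ⊢
    obtain ⟨n, rfl⟩ := ENat.ne_top_iff_exists.mp (fun h : m = ⊤ => h1 (by rw [h]; rfl))
    exact ⟨n, rfl⟩
  have hpd : CategoryTheory.HasProjectiveDimensionLT (ModuleCat.of R I) (d + 1) :=
    Groth.Agent.S0563.result R d hd I
  have : Nontrivial (R ⧸ I) := Ideal.Quotient.nontrivial_iff.mpr hI
  have : IsLocalRing (R ⧸ I) :=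
    IsLocalRing.of_surjective' (Ideal.Quotient.mk I) Ideal.Quotient.mk_surjective
  have : Module.Finite R I := Module.Finite.of_fg (IsNoetherian.noetherian I)
  have : Module.Finite R I.Cotangent := Module.Finite.of_surjective I.toCotangent I.toCotangent_surjective
  have : Module.Finite (R ⧸ I) I.Cotangent := Module.Finite.of_restrictScalars_finite R (R ⧸ I) _
  have : Module.Free (R ⧸ I) I.Cotangent := Module.free_of_flat_of_isLocalRing
  let r := Module.finrank (R ⧸ I) I.Cotangent
  let e : I.Cotangent ≃ₗ[R ⧸ I] (Fin r → R ⧸ I) := (Module.finBasis (R ⧸ I) I.Cotangent).equivFun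
  obtain ⟨x, hx, hreg, hspan⟩ := Groth.Agent.S2188.result I hI (d + 1) hpd ⊤ ⊥ isCompl_top_bot r
    (Submodule.topEquiv ≪≫ₗ e)
  refine ⟨List.ofFn x, hreg, ?_⟩
  have h1 : Ideal.ofList (List.ofFn x) = Ideal.span (Set.range x) := by
    rw [Ideal.ofList]
    congr 1
    ext z
    simp [List.mem_ofFn]
  rw [h1]
  apply le_antisymm
  · rw [Ideal.span_le]
    rintro _ ⟨i, rfl⟩
    exact hx i
  · -- Nakayama
    have hsup : I ≤ Ideal.span (Set.range x) ⊔ I • I := by
      intro y hy
      have h2 : I.toCotangent ⟨y, hy⟩ ∈ Submodule.span (R ⧸ I)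
          (Set.range fun i => I.toCotangent ⟨x i, hx i⟩) := by rw [hspan]; trivial
      rw [Submodule.mem_span_range_iff_exists_fun] at h2
      obtain ⟨c, hc⟩ := h2
      choose c' hc' using fun i => Ideal.Quotient.mk_surjective (c i)
      have h3 : I.toCotangent (⟨y, hy⟩ - ∑ i, c' i • (⟨x i, hx i⟩ : I)) = 0 := by
        rw [map_sub, map_sum, sub_eq_zero, ← hc]
        refine Finset.sum_congr rfl fun i _ => ?_
        rw [← hc' i, map_smul]
        rfl
      rw [Ideal.toCotangent_eq_zero] at h3
      rw [Submodule.mem_sup]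
      refine ⟨∑ i, c' i • x i, ?_, y - ∑ i, c' i • x i, ?_, by ring⟩
      · exact Ideal.sum_mem _ fun i _ => Ideal.mul_mem_left _ _ (Ideal.subset_span ⟨i, rfl⟩)
      · have h4 : ((⟨y, hy⟩ - ∑ i, c' i • (⟨x i, hx i⟩ : I) : I) : R) = y - ∑ i, c' i • x i := by
          simp
        rw [h4, pow_two] at h3
        exact h3
    exact Submodule.le_of_le_smul_of_le_jacobson_bot (IsNoetherian.noetherian I)
      ((IsLocalRing.le_maximalIdeal hI).trans (IsLocalRing.maximalIdeal_le_jacobson _)) hsup

/-- If `A` is local, essentially of finite type over a field `k`, and `H₁(L_{A/k})` and `Ω_{A/k}` are projective,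
then `A` is a complete intersection. -/
theorem isCI_of_projective (k A : Type u) [Field k] [CommRing A] [IsLocalRing A] [Algebra k A]
    [Algebra.EssFiniteType k A] (h1 : Module.Projective A (H1Cotangent k A))
    (h2 : Module.Projective A Ω[A⁄k]) : Pi1.IsCompleteIntersection A := by
  obtain ⟨n, Q, hQ, π, hπ⟩ := K562.FieldCI.exists_surjective_of_essFiniteType k A
  let E : Algebra.Extension k A := Algebra.Extension.ofSurjective π hπ
  haveI hsm : Algebra.FormallySmooth k (Localization.AtPrime Q) := by
    have : Algebra.FormallyEtale (MvPolynomial (Fin n) k) (Localization.AtPrime Q) :=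
      .of_isLocalization Q.primeCompl
    exact .comp _ (MvPolynomial (Fin n) k) _
  haveI : Algebra.FormallySmooth k E.Ring := hsm
  haveI : Module.Projective (Localization.AtPrime Q) Ω[Localization.AtPrime Q⁄k] := inferInstance
  haveI : Module.Projective E.Ring Ω[E.Ring⁄k] := inferInstance
  haveI : Module.Projective A E.CotangentSpace :=
    inferInstanceAs (Module.Projective A (A ⊗[E.Ring] Ω[E.Ring⁄k]))
  haveI : Module.Projective A E.H1Cotangent :=
    Module.Projective.of_equiv (E.equivH1CotangentOfFormallySmooth).symm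
  haveI hC : Module.Projective A E.Cotangent :=
    projective_mid E.h1Cotangentι E.cotangentComplex E.toKaehler E.h1Cotangentι_injective
      E.exact_hCotangentι_cotangentComplex E.exact_cotangentComplex_toKaehler E.toKaehler_surjective
  refine isCI_of_projective_cotangent π.toRingHom hπ ?_
  let e : A ≃+* (Localization.AtPrime Q ⧸ RingHom.ker π.toRingHom) :=
    (RingHom.quotientKerEquivOfSurjective (f := π.toRingHom) hπ).symm
  letI : RingHomInvPair (e : A →+* (Localization.AtPrime Q ⧸ RingHom.ker π.toRingHom))
    (e.symm : (Localization.AtPrime Q ⧸ RingHom.ker π.toRingHom) →+* A) := RingHomInvPair.of_ringEquiv e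
  letI : RingHomInvPair (e.symm : (Localization.AtPrime Q ⧸ RingHom.ker π.toRingHom) →+* A)
    (e : A →+* (Localization.AtPrime Q ⧸ RingHom.ker π.toRingHom)) := RingHomInvPair.symm _ _
  let toF : E.Cotangent → (RingHom.ker π.toRingHom).Cotangent :=
    fun x => Algebra.Extension.Cotangent.val x
  let invF : (RingHom.ker π.toRingHom).Cotangent → E.Cotangent :=
    fun x => Algebra.Extension.Cotangent.of (P := E) x
  let e6 : E.Cotangent ≃ₛₗ[(e : A →+* (Localization.AtPrime Q ⧸ RingHom.ker π.toRingHom))]
      (RingHom.ker π.toRingHom).Cotangent :=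
    { toFun := toF
      invFun := invF
      map_add' := fun x y => rfl
      left_inv := fun x => Algebra.Extension.Cotangent.of_val (P := E) x
      right_inv := fun x => Algebra.Extension.Cotangent.val_of (P := E) x
      map_smul' := fun r x => by
        obtain ⟨a, rfl⟩ := hπ r
        have h3 : (π a : A) • x = (show E.Ring from a) • x := rfl
        have h4 : e (π a) = Ideal.Quotient.mk _ a := by
          rw [RingEquiv.symm_apply_eq]
          rfl
        have h5 : toF ((show E.Ring from a) • x) = a • toF x :=
          Algebra.Extension.Cotangent.val_smul' (P := E) a x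
        change toF ((π a : A) • x) = e (π a) • toF x
        rw [h3, h4, h5]
        rfl }
  exact Module.Projective.of_equiv e6

end K268.FreeCI
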