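import Groth.Agent.UnramA.DescentPoint
import Mathlib.RingTheory.Etale.Kaehler
import Mathlib.RingTheory.Kaehler.TensorProduct
import Mathlib.RingTheory.IsTensorProduct

/-!
# Freeness of `H₁(L_{A/k})` and of `Ω_{A/k}` for local rings of group schemes, algebra part
-/

set_option autoImplicit false
set_option linter.style.haveILetI false
universe u
open TensorProduct Algebra

namespace K268.FreeH1

section Compare

variable (k C A D : Type u) [CommRing k] [CommRing C] [CommRing A] [CommRing D]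
  [Algebra k C] [Algebra k A] [Algebra k D] [Algebra C D] [Algebra A D]
  [IsScalarTower k C D] [IsScalarTower k A D]

attribute [local instance] TensorProduct.rightAlgebra in
theorem isBaseChange_h1 [Module.Flat k A] [Algebra (A ⊗[k] C) D] [IsScalarTower A (A ⊗[k] C) D]
    [IsScalarTower C (A ⊗[k] C) D] (M : Submonoid (A ⊗[k] C)) [IsLocalization M D] :
    IsBaseChange D (H1Cotangent.map k A C D) := by
  have h1 : IsBaseChange (A ⊗[k] C) (H1Cotangent.map k A C (A ⊗[k] C)) :=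
    Groth.Agent.UnramA.DescentPoint.bijective_liftBaseChange_h1Cotangent_map k C A
  have h2 : IsBaseChange D (H1Cotangent.map A A (A ⊗[k] C) D) :=
    (isLocalizedModule_iff_isBaseChange M D _).1 inferInstance
  have h3 := IsBaseChange.comp h1 h2
  have h4 : ((H1Cotangent.map A A (A ⊗[k] C) D).restrictScalars C) ∘ₗ
      (H1Cotangent.map k A C (A ⊗[k] C)) = H1Cotangent.map k A C D := by
    ext x
    rw [LinearMap.comp_apply, LinearMap.restrictScalars_apply]
    rw [Algebra.H1Cotangent.map, Algebra.H1Cotangent.map, Algebra.H1Cotangent.map,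
      ← Algebra.Extension.H1Cotangent.map_comp_apply, Algebra.Extension.H1Cotangent.map_eq]
  rwa [h4] at h3

attribute [local instance] TensorProduct.rightAlgebra in
theorem isBaseChange_kaehler [Algebra (A ⊗[k] C) D] [IsScalarTower A (A ⊗[k] C) D]
    [IsScalarTower C (A ⊗[k] C) D] (M : Submonoid (A ⊗[k] C)) [IsLocalization M D] :
    IsBaseChange D (KaehlerDifferential.map k A C D) := by
  have h1 : IsBaseChange (A ⊗[k] C) (KaehlerDifferential.map k A C (A ⊗[k] C)) := by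
    change Function.Bijective ((KaehlerDifferential.map k A C (A ⊗[k] C)).liftBaseChange (A ⊗[k] C))
    have h : (KaehlerDifferential.map k A C (A ⊗[k] C)).liftBaseChange (A ⊗[k] C) =
        (KaehlerDifferential.tensorKaehlerEquiv k A C (A ⊗[k] C)).toLinearMap := by
      ext x
      simp
    rw [h]
    exact (KaehlerDifferential.tensorKaehlerEquiv k A C (A ⊗[k] C)).bijective
  have h2 : IsBaseChange D (KaehlerDifferential.map A A (A ⊗[k] C) D) :=
    (isLocalizedModule_iff_isBaseChange M D _).1 inferInstance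
  have h3 := IsBaseChange.comp h1 h2
  have h4 : ((KaehlerDifferential.map A A (A ⊗[k] C) D).restrictScalars C) ∘ₗ
      (KaehlerDifferential.map k A C (A ⊗[k] C)) = KaehlerDifferential.map k A C D := by
    ext x
    change (KaehlerDifferential.map A A (A ⊗[k] C) D)
      ((KaehlerDifferential.map k A C (A ⊗[k] C)) (KaehlerDifferential.D k C x)) =
        KaehlerDifferential.map k A C D (KaehlerDifferential.D k C x)
    rw [KaehlerDifferential.map_D, KaehlerDifferential.map_D, KaehlerDifferential.map_D,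
      ← IsScalarTower.algebraMap_apply]
  rwa [h4] at h3

end Compare

section Free

variable {C A₁ D A₃ K : Type u} [CommRing C] [CommRing A₁] [CommRing D] [CommRing A₃] [Field K]
  [Algebra C D] [Algebra A₁ D] [Algebra D A₃] [Algebra A₁ A₃] [IsScalarTower A₁ D A₃]
  [Algebra C A₃] [IsScalarTower C D A₃] [Algebra C K] [Algebra K A₃] [IsScalarTower C K A₃]

variable (A₃ K) in
include K in
theorem free_of_isBaseChange (M₁ M₂ N : Type u) [AddCommGroup M₁] [AddCommGroup M₂] [AddCommGroup N]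
    [Module C M₁] [Module A₁ M₂] [Module D N] [Module C N] [Module A₁ N] [IsScalarTower C D N]
    [IsScalarTower A₁ D N] (f₁ : M₁ →ₗ[C] N) (h₁ : IsBaseChange D f₁) (f₂ : M₂ →ₗ[A₁] N)
    (h₂ : IsBaseChange D f₂) (hbij : Function.Bijective (algebraMap A₁ A₃)) : Module.Free A₁ M₂ := by
  have e1 : A₃ ⊗[D] N ≃ₗ[A₃] A₃ ⊗[C] M₁ :=
    (AlgebraTensorModule.congr (LinearEquiv.refl A₃ A₃) h₁.equiv).symm ≪≫ₗ
      AlgebraTensorModule.cancelBaseChange C D A₃ A₃ M₁
  have e2 : A₃ ⊗[D] N ≃ₗ[A₃] A₃ ⊗[A₁] M₂ :=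
    (AlgebraTensorModule.congr (LinearEquiv.refl A₃ A₃) h₂.equiv).symm ≪≫ₗ
      AlgebraTensorModule.cancelBaseChange A₁ D A₃ A₃ M₂
  have e3 : A₃ ⊗[K] (K ⊗[C] M₁) ≃ₗ[A₃] A₃ ⊗[C] M₁ :=
    AlgebraTensorModule.cancelBaseChange C K A₃ A₃ M₁
  have e4 : A₃ ⊗[K] (K ⊗[C] M₁) ≃ₗ[A₃] A₃ ⊗[A₁] M₂ := e3 ≪≫ₗ e1.symm ≪≫ₗ e2
  have hf : Module.Free A₃ (A₃ ⊗[A₁] M₂) := Module.Free.of_equiv e4
  let e : A₃ ≃+* A₁ := (RingEquiv.ofBijective (algebraMap A₁ A₃) hbij).symm
  have e5 : (A₃ ⊗[A₁] M₂) ≃ₗ[A₁] M₂ :=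
    TensorProduct.congr ((AlgEquiv.ofBijective (Algebra.ofId A₁ A₃) hbij).symm.toLinearEquiv)
      (LinearEquiv.refl A₁ M₂) ≪≫ₗ TensorProduct.lid A₁ M₂
  letI : RingHomInvPair (e : A₃ →+* A₁) (e.symm : A₁ →+* A₃) := RingHomInvPair.of_ringEquiv e
  letI : RingHomInvPair (e.symm : A₁ →+* A₃) (e : A₃ →+* A₁) := RingHomInvPair.symm _ _
  let e6 : (A₃ ⊗[A₁] M₂) ≃ₛₗ[(e : A₃ →+* A₁)] M₂ :=
    { e5.toAddEquiv with
      map_smul' := fun r x => by
        obtain ⟨a, rfl⟩ := hbij.2 r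
        rw [algebraMap_smul]
        change e5 (a • x) = e (algebraMap A₁ A₃ a) • e5 x
        rw [map_smul]
        congr 1
        exact ((RingEquiv.ofBijective (algebraMap A₁ A₃) hbij).symm_apply_apply a).symm }
  exact Module.Free.of_equiv e6

end Free

section Main

variable (k C A₁ A₂ D A₃ K : Type u) [Field k] [CommRing C] [CommRing A₁] [CommRing A₂]
  [CommRing D] [CommRing A₃] [Field K]
  [Algebra k C] [Algebra k A₁] [Algebra k A₂] [Algebra k D] [Algebra C D] [Algebra A₁ D] [Algebra A₂ D]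
  [IsScalarTower k C D] [IsScalarTower k A₁ D] [IsScalarTower k A₂ D]
  [Algebra D A₃] [Algebra A₁ A₃] [IsScalarTower A₁ D A₃]
  [Algebra C A₃] [IsScalarTower C D A₃] [Algebra C K] [Algebra K A₃] [IsScalarTower C K A₃]

include K in
theorem free_h1 (q₁ : Submonoid (A₂ ⊗[k] C)) (q₂ : Submonoid (A₂ ⊗[k] A₁))
    (h₁ : letI := (Algebra.TensorProduct.lift (IsScalarTower.toAlgHom k A₂ D)
      (IsScalarTower.toAlgHom k C D) (fun _ _ => Commute.all _ _)).toRingHom.toAlgebra
      IsLocalization q₁ D)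
    (h₂ : letI := (Algebra.TensorProduct.lift (IsScalarTower.toAlgHom k A₂ D)
      (IsScalarTower.toAlgHom k A₁ D) (fun _ _ => Commute.all _ _)).toRingHom.toAlgebra
      IsLocalization q₂ D)
    (hbij : Function.Bijective (algebraMap A₁ A₃)) :
    Module.Free A₁ (H1Cotangent k A₁) ∧ Module.Free A₁ Ω[A₁⁄k] := by
  letI i1 : Algebra (A₂ ⊗[k] C) D := (Algebra.TensorProduct.lift (IsScalarTower.toAlgHom k A₂ D)
      (IsScalarTower.toAlgHom k C D) (fun _ _ => Commute.all _ _)).toRingHom.toAlgebra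
  letI i2 : Algebra (A₂ ⊗[k] A₁) D := (Algebra.TensorProduct.lift (IsScalarTower.toAlgHom k A₂ D)
      (IsScalarTower.toAlgHom k A₁ D) (fun _ _ => Commute.all _ _)).toRingHom.toAlgebra
  haveI : IsLocalization q₁ D := h₁
  haveI : IsLocalization q₂ D := h₂
  haveI t1 : IsScalarTower A₂ (A₂ ⊗[k] C) D := IsScalarTower.of_algebraMap_eq' (by
    ext x
    change _ = (Algebra.TensorProduct.lift (IsScalarTower.toAlgHom k A₂ D)
      (IsScalarTower.toAlgHom k C D) (fun _ _ => Commute.all _ _)) (x ⊗ₜ 1)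
    simp)
  haveI t2 : IsScalarTower A₂ (A₂ ⊗[k] A₁) D := IsScalarTower.of_algebraMap_eq' (by
    ext x
    change _ = (Algebra.TensorProduct.lift (IsScalarTower.toAlgHom k A₂ D)
      (IsScalarTower.toAlgHom k A₁ D) (fun _ _ => Commute.all _ _)) (x ⊗ₜ 1)
    simp)
  letI : Algebra C (A₂ ⊗[k] C) := TensorProduct.rightAlgebra
  letI : Algebra A₁ (A₂ ⊗[k] A₁) := TensorProduct.rightAlgebra
  haveI t3 : IsScalarTower C (A₂ ⊗[k] C) D := IsScalarTower.of_algebraMap_eq' (by
    ext x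
    change _ = (Algebra.TensorProduct.lift (IsScalarTower.toAlgHom k A₂ D)
      (IsScalarTower.toAlgHom k C D) (fun _ _ => Commute.all _ _)) (1 ⊗ₜ x)
    simp)
  haveI t4 : IsScalarTower A₁ (A₂ ⊗[k] A₁) D := IsScalarTower.of_algebraMap_eq' (by
    ext x
    change _ = (Algebra.TensorProduct.lift (IsScalarTower.toAlgHom k A₂ D)
      (IsScalarTower.toAlgHom k A₁ D) (fun _ _ => Commute.all _ _)) (1 ⊗ₜ x)
    simp)
  constructor
  · exact free_of_isBaseChange A₃ K (H1Cotangent k C) (H1Cotangent k A₁) (H1Cotangent A₂ D) _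
      (isBaseChange_h1 k C A₂ D q₁) _ (isBaseChange_h1 k A₁ A₂ D q₂) hbij
  · exact free_of_isBaseChange A₃ K Ω[C⁄k] Ω[A₁⁄k] Ω[D⁄A₂] _
      (isBaseChange_kaehler k C A₂ D q₁) _ (isBaseChange_kaehler k A₁ A₂ D q₂) hbij

end Main

end K268.FreeH1
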