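import Groth.Agent.VarietyA.StalkBC
import Mathlib.RingTheory.Flat.Localization
import Mathlib.RingTheory.Localization.AtPrime.Basic

/-!
# The stalk of a fibre product over an affine base is a localization of the tensor product
of the stalks
-/

set_option autoImplicit false
set_option linter.style.haveILetI false
universe u
open CategoryTheory CategoryTheory.Limits AlgebraicGeometry TensorProduct

namespace K268.StalkLoc

open Groth.Agent.VarietyA.StalkBC

/-- a flat ring homomorphism `T → D`, `D` local, inducing a monomorphism on spectra, is a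
localization at a prime. -/
theorem isLocalization_of_flat_mono {T D : Type u} [CommRing T] [CommRing D] [IsLocalRing D]
    [Algebra T D] [Module.Flat T D] (hm : Mono (Spec.map (CommRingCat.ofHom (algebraMap T D)))) :
    IsLocalization.AtPrime D ((IsLocalRing.maximalIdeal D).comap (algebraMap T D)) := by
  let p := (IsLocalRing.maximalIdeal D).comap (algebraMap T D)
  haveI : p.IsPrime := inferInstance
  have hu : ∀ y : p.primeCompl, IsUnit (algebraMap T D y) := by
    intro y
    by_contra hy
    exact y.2 ((IsLocalRing.mem_maximalIdeal _).2 hy)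
  let ψ : Localization.AtPrime p →+* D := IsLocalization.lift hu
  have hψ : ψ.comp (algebraMap T (Localization.AtPrime p)) = algebraMap T D :=
    IsLocalization.lift_comp hu
  letI : Algebra (Localization.AtPrime p) D := ψ.toAlgebra
  haveI : IsScalarTower T (Localization.AtPrime p) D := IsScalarTower.of_algebraMap_eq' hψ.symm
  haveI hfl : Module.Flat (Localization.AtPrime p) D :=
    (Module.flat_iff_of_isLocalization (Localization.AtPrime p) p.primeCompl D).2 inferInstance
  haveI hloc : IsLocalHom ψ := by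
    rw [((IsLocalRing.local_hom_TFAE ψ).out 0 4 :)]
    ext x
    obtain ⟨a, s, rfl⟩ := IsLocalization.exists_mk'_eq p.primeCompl x
    rw [Ideal.mem_comap, IsLocalRing.mem_maximalIdeal, IsLocalRing.mem_maximalIdeal,
      mem_nonunits_iff, mem_nonunits_iff, not_iff_not, IsLocalization.AtPrime.isUnit_mk'_iff
        (Localization.AtPrime p) p]
    have h1 : ψ (IsLocalization.mk' (Localization.AtPrime p) a s) * algebraMap T D s =
        algebraMap T D a := by
      rw [← hψ, RingHom.comp_apply, RingHom.comp_apply, ← map_mul, IsLocalization.mk'_spec]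
    have h2 : IsUnit (ψ (IsLocalization.mk' (Localization.AtPrime p) a s)) ↔
        IsUnit (algebraMap T D a) := by
      rw [← h1, IsUnit.mul_iff]
      exact ⟨fun h => ⟨h, hu s⟩, fun h => h.1⟩
    rw [h2]
    change IsUnit (algebraMap T D a) ↔ ¬ (a ∈ p)
    change _ ↔ ¬ (algebraMap T D a ∈ IsLocalRing.maximalIdeal D)
    rw [IsLocalRing.mem_maximalIdeal, mem_nonunits_iff, not_not]
  have h3 : ψ.FaithfullyFlat := by
    haveI : IsLocalHom (algebraMap (Localization.AtPrime p) D) := hloc
    exact (Module.FaithfullyFlat.of_flat_of_isLocalHom :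
      Module.FaithfullyFlat (Localization.AtPrime p) D)
  have hmono : Mono (Spec.map (CommRingCat.ofHom ψ)) := by
    have h4 : Spec.map (CommRingCat.ofHom ψ) ≫
        Spec.map (CommRingCat.ofHom (algebraMap T (Localization.AtPrime p))) =
        Spec.map (CommRingCat.ofHom (algebraMap T D)) := by
      rw [← Spec.map_comp, ← CommRingCat.ofHom_comp, hψ]
    exact mono_of_mono_fac h4
  obtain ⟨h4, h5⟩ := (flat_and_surjective_SpecMap_iff (CommRingCat.ofHom ψ)).2 h3
  have h6 : IsIso (Spec.map (CommRingCat.ofHom ψ)) := Flat.isIso_of_surjective_of_mono _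
  rw [isIso_SpecMap_iff] at h6
  let e : Localization.AtPrime p ≃ₐ[T] D :=
    AlgEquiv.ofBijective (IsScalarTower.toAlgHom T (Localization.AtPrime p) D) h6
  exact IsLocalization.isLocalization_of_algEquiv p.primeCompl e

variable {R : Type u} [CommRing R] {X Y P : Scheme.{u}} (f : X ⟶ Spec (CommRingCat.of R))
  (g : Y ⟶ Spec (CommRingCat.of R)) {p₁ : P ⟶ X} {p₂ : P ⟶ Y} (h : IsPullback p₁ p₂ f g) (z : P)

include h in
theorem isLocalization_stalk [Algebra R (X.presheaf.stalk (p₁ z))]
    [Algebra R (Y.presheaf.stalk (p₂ z))]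
    (ha : algebraMap R (X.presheaf.stalk (p₁ z)) = stalkRingHom f (p₁ z))
    (hb : algebraMap R (Y.presheaf.stalk (p₂ z)) = stalkRingHom g (p₂ z))
    [Algebra (X.presheaf.stalk (p₁ z) ⊗[R] Y.presheaf.stalk (p₂ z)) (P.presheaf.stalk z)]
    (h1 : (algebraMap (X.presheaf.stalk (p₁ z) ⊗[R] Y.presheaf.stalk (p₂ z))
      (P.presheaf.stalk z)).comp (Algebra.TensorProduct.includeLeftRingHom) = (p₁.stalkMap z).hom)
    (h2 : (algebraMap (X.presheaf.stalk (p₁ z) ⊗[R] Y.presheaf.stalk (p₂ z))
      (P.presheaf.stalk z)).comp (Algebra.TensorProduct.includeRight (R := R)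
        (A := X.presheaf.stalk (p₁ z)) (B := Y.presheaf.stalk (p₂ z))).toRingHom =
          (p₂.stalkMap z).hom) :
    IsLocalization.AtPrime (P.presheaf.stalk z)
      ((IsLocalRing.maximalIdeal (P.presheaf.stalk z)).comap
        (algebraMap (X.presheaf.stalk (p₁ z) ⊗[R] Y.presheaf.stalk (p₂ z)) (P.presheaf.stalk z))) := by
  let T := X.presheaf.stalk (p₁ z) ⊗[R] Y.presheaf.stalk (p₂ z)
  let φ := CommRingCat.ofHom (algebraMap T (P.presheaf.stalk z))
  let il : X.presheaf.stalk (p₁ z) ⟶ CommRingCat.of T := inl (Y.presheaf.stalk (p₂ z)) (p₁ z)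
  let ir : Y.presheaf.stalk (p₂ z) ⟶ CommRingCat.of T := inr (Y.presheaf.stalk (p₂ z)) (p₁ z)
  have hpush := CommRingCat.isPushout_tensorProduct R (X.presheaf.stalk (p₁ z))
    (Y.presheaf.stalk (p₂ z))
  have hpb := isPullback_SpecMap_of_isPushout _ _ _ _ hpush
  have hw : (Spec.map il ≫ X.fromSpecStalk (p₁ z)) ≫ f =
      (Spec.map ir ≫ Y.fromSpecStalk (p₂ z)) ≫ g := by
    rw [Category.assoc, Category.assoc, fromSpecStalk_comp, fromSpecStalk_comp, ← ha, ← hb]
    exact hpb.w
  let q : Spec (CommRingCat.of T) ⟶ P := h.lift _ _ hw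
  have hq1 : q ≫ p₁ = Spec.map il ≫ X.fromSpecStalk (p₁ z) := h.lift_fst _ _ _
  have hq2 : q ≫ p₂ = Spec.map ir ≫ Y.fromSpecStalk (p₂ z) := h.lift_snd _ _ _
  haveI hqm : Mono q := by
    constructor
    intro W a b hab
    apply hpb.hom_ext
    · rw [← cancel_mono (X.fromSpecStalk (p₁ z)), Category.assoc, Category.assoc]
      change a ≫ Spec.map il ≫ _ = b ≫ Spec.map il ≫ _
      rw [← hq1, reassoc_of% hab]
    · rw [← cancel_mono (Y.fromSpecStalk (p₂ z)), Category.assoc, Category.assoc]
      change a ≫ Spec.map ir ≫ _ = b ≫ Spec.map ir ≫ _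
      rw [← hq2, reassoc_of% hab]
  have hφq : Spec.map φ ≫ q = P.fromSpecStalk z := by
    apply h.hom_ext
    · rw [Category.assoc, hq1, ← Spec.map_comp_assoc]
      have : il ≫ φ = p₁.stalkMap z := CommRingCat.hom_ext h1
      rw [this]
      exact Scheme.SpecMap_stalkMap_fromSpecStalk p₁
    · rw [Category.assoc, hq2, ← Spec.map_comp_assoc]
      have : ir ≫ φ = p₂.stalkMap z := CommRingCat.hom_ext h2
      rw [this]
      exact Scheme.SpecMap_stalkMap_fromSpecStalk p₂
  have hmono : Mono (Spec.map φ) := mono_of_mono_fac hφq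
  have hpb2 : IsPullback (𝟙 _) (Spec.map φ) (P.fromSpecStalk z) q := by
    refine ⟨⟨by rw [Category.id_comp, hφq]⟩, ⟨PullbackCone.IsLimit.mk _ (fun s => s.fst)
      (fun s => Category.comp_id _) (fun s => ?_) (fun s m hm1 _ => by
        rw [← hm1]; exact (Category.comp_id _).symm)⟩⟩
    rw [← cancel_mono q, Category.assoc, hφq]
    exact s.condition
  have hflat : Flat (Spec.map φ) := MorphismProperty.of_isPullback hpb2 inferInstance
  haveI : Module.Flat T (P.presheaf.stalk z) := by
    have := Flat.SpecMap_iff.1 hflat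
    exact (RingHom.flat_algebraMap_iff (R := T)).1 this
  exact isLocalization_of_flat_mono hmono

end K268.StalkLoc
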