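import Groth.Agent.GrpSch.K268.FreeH1
import Groth.Agent.GrpSch.K268.StalkLoc
import Groth.Agent.Localalg.GrpSchComp2
import Mathlib.RingTheory.Localization.FractionRing

/-!
# `Ω` and `H₁(L)` of the local rings of a group scheme over a field are free
-/

set_option autoImplicit false
set_option linter.style.haveILetI false
universe u
open CategoryTheory CategoryTheory.Limits AlgebraicGeometry TensorProduct
open MonoidalCategory CartesianMonoidalCategory MonObj GrpObj

namespace K268.FreeStalk

open Groth.Agent.VarietyA.StalkBC Groth.Agent.Localalg.GrpSchPts Groth.Agent.Localalg.GrpSchComp2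

/-- The local rings of the spectrum of a field are fields. -/
theorem isField_stalk (k : Type u) [Field k] (s : Spec (CommRingCat.of k)) :
    IsField ((Spec (CommRingCat.of k)).presheaf.stalk s) := by
  letI : Algebra k ((Spec (CommRingCat.of k)).presheaf.stalk s) :=
    StructureSheaf.stalkAlgebra k s
  haveI : s.asIdeal.IsPrime := PrimeSpectrum.isPrime s
  haveI : IsLocalization.AtPrime ((Spec (CommRingCat.of k)).presheaf.stalk s) s.asIdeal :=
    StructureSheaf.IsLocalization.to_stalk k s
  have h1 : Function.Bijective (algebraMap k ((Spec (CommRingCat.of k)).presheaf.stalk s)) :=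
    IsField.localization_map_bijective (M := s.asIdeal.primeCompl)
      (by simp) (Field.toIsField k)
  exact MulEquiv.isField (Field.toIsField k) (RingEquiv.ofBijective _ h1).symm.toMulEquiv

/-- The stalk map of a morphism factoring over the spectrum of a field factors over a field. -/
theorem exists_factor (k : Type u) [Field k] {X Y : Scheme.{u}} (a : X ⟶ Y)
    (b : X ⟶ Spec (CommRingCat.of k)) (c : Spec (CommRingCat.of k) ⟶ Y) (h : a = b ≫ c) (x : X) :
    ∃ (K : Type u) (_ : Field K) (α : Y.presheaf.stalk (a x) →+* K)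
      (β : K →+* X.presheaf.stalk x), β.comp α = (a.stalkMap x).hom := by
  subst h
  letI := (isField_stalk k (b x)).toField
  refine ⟨(Spec (CommRingCat.of k)).presheaf.stalk (b x), inferInstance, (c.stalkMap (b x)).hom,
    (b.stalkMap x).hom, ?_⟩
  rw [Scheme.Hom.stalkMap_comp]
  rfl

section grp

variable {k : Type u} [Field k] (G : Over (Spec (CommRingCat.of k))) [GrpObj G]

theorem isPullback_mul_snd : IsPullback (μ[G]).left (snd G G).left G.hom G.hom := by
  have h := isPullback_tensor G G
  have h1 : (shear' G).hom.left ≫ (fst G G).left = (μ[G]).left := by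
    rw [← Over.comp_left, shear'_hom_fst]
  have h2 : (shear' G).hom.left ≫ (snd G G).left = (snd G G).left := by
    rw [← Over.comp_left, shear'_hom_snd]
  have h3 := h.of_iso ((Over.forget _).mapIso (shear' G).symm) (Iso.refl _) (Iso.refl _) (Iso.refl _)
    (fst' := (μ[G]).left) (snd' := (snd G G).left) (f' := G.hom) (g' := G.hom)
    (by
      change _ ≫ 𝟙 _ = (shear' G).inv.left ≫ _
      rw [Category.comp_id, ← h1, ← Over.comp_left_assoc, Iso.inv_hom_id]; simp)
    (by
      change _ ≫ 𝟙 _ = (shear' G).inv.left ≫ _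
      rw [Category.comp_id]
      conv_rhs => rw [← h2]
      rw [← Over.comp_left_assoc, Iso.inv_hom_id]; simp)
    (by simp) (by simp)
  exact h3

/-- The section `g ↦ (1, g)` of the multiplication. -/
noncomputable def jmap : G ⟶ G ⊗ G := lift (toUnit G ≫ η[G]) (𝟙 G)

theorem jmap_mul : jmap G ≫ μ[G] = 𝟙 G := by
  have : jmap G = (λ_ G).inv ≫ (η[G] ▷ G) := by
    ext <;> simp [jmap]
  rw [this, Category.assoc, MonObj.one_mul, Iso.inv_hom_id]

theorem free_stalk_aux (y : G.left) :
    letI : Algebra k (G.left.presheaf.stalk ((μ[G]).left ((jmap G).left y))) :=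
      (stalkRingHom G.hom _).toAlgebra
    Module.Free (G.left.presheaf.stalk ((μ[G]).left ((jmap G).left y)))
        (Algebra.H1Cotangent k (G.left.presheaf.stalk ((μ[G]).left ((jmap G).left y)))) ∧
      Module.Free (G.left.presheaf.stalk ((μ[G]).left ((jmap G).left y)))
        Ω[G.left.presheaf.stalk ((μ[G]).left ((jmap G).left y))⁄k] := by
  let z := (jmap G).left y
  let C := G.left.presheaf.stalk ((fst G G).left z)
  let A₁ := G.left.presheaf.stalk ((μ[G]).left z)
  let A₂ := G.left.presheaf.stalk ((snd G G).left z)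
  let D := (G ⊗ G).left.presheaf.stalk z
  let A₃ := G.left.presheaf.stalk y
  letI : Algebra k A₁ := (stalkRingHom G.hom _).toAlgebra
  letI : Algebra k A₂ := (stalkRingHom G.hom _).toAlgebra
  letI : Algebra k C := (stalkRingHom G.hom _).toAlgebra
  letI : Algebra k D := (stalkRingHom (G ⊗ G).hom _).toAlgebra
  letI : Algebra C D := ((fst G G).left.stalkMap z).hom.toAlgebra
  letI : Algebra A₁ D := ((μ[G]).left.stalkMap z).hom.toAlgebra
  letI : Algebra A₂ D := ((snd G G).left.stalkMap z).hom.toAlgebra
  letI : Algebra D A₃ := ((jmap G).left.stalkMap y).hom.toAlgebra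
  letI : Algebra A₁ A₃ := ((algebraMap D A₃).comp (algebraMap A₁ D)).toAlgebra
  letI : Algebra C A₃ := ((algebraMap D A₃).comp (algebraMap C D)).toAlgebra
  haveI : IsScalarTower A₁ D A₃ := IsScalarTower.of_algebraMap_eq' rfl
  haveI : IsScalarTower C D A₃ := IsScalarTower.of_algebraMap_eq' rfl
  haveI : IsScalarTower k C D := IsScalarTower.of_algebraMap_eq' (by
    change stalkRingHom (G ⊗ G).hom z = ((fst G G).left.stalkMap z).hom.comp (stalkRingHom G.hom _)
    rw [stalkRingHom_comp, stalkRingHom_congr _ (Over.w (fst G G))])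
  haveI : IsScalarTower k A₁ D := IsScalarTower.of_algebraMap_eq' (by
    change stalkRingHom (G ⊗ G).hom z = ((μ[G]).left.stalkMap z).hom.comp (stalkRingHom G.hom _)
    rw [stalkRingHom_comp, stalkRingHom_congr _ (Over.w (μ[G]))])
  haveI : IsScalarTower k A₂ D := IsScalarTower.of_algebraMap_eq' (by
    change stalkRingHom (G ⊗ G).hom z = ((snd G G).left.stalkMap z).hom.comp (stalkRingHom G.hom _)
    rw [stalkRingHom_comp, stalkRingHom_congr _ (Over.w (snd G G))])
  obtain ⟨K, _, α, β, hαβ⟩ := exists_factor k ((jmap G).left ≫ (fst G G).left)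
    (toUnit G).left (η[G]).left
    (by rw [← Over.comp_left, ← Over.comp_left, jmap, lift_fst]) y
  letI : Algebra C K := α.toAlgebra
  letI : Algebra K A₃ := β.toAlgebra
  haveI : IsScalarTower C K A₃ := IsScalarTower.of_algebraMap_eq' (by
    change ((jmap G).left.stalkMap y).hom.comp ((fst G G).left.stalkMap z).hom = β.comp α
    rw [hαβ, Scheme.Hom.stalkMap_comp]
    rfl)
  have hbij : Function.Bijective (algebraMap A₁ A₃) := by
    haveI : IsIso ((jmap G).left ≫ (μ[G]).left) := by
      rw [← Over.comp_left, jmap_mul]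
      exact inferInstanceAs (IsIso (𝟙 G.left))
    have h1 := ConcreteCategory.bijective_of_isIso (((jmap G).left ≫ (μ[G]).left).stalkMap y)
    rw [Scheme.Hom.stalkMap_comp] at h1
    exact h1
  let φ₁ : A₂ ⊗[k] C →ₐ[k] D := Algebra.TensorProduct.lift (IsScalarTower.toAlgHom k A₂ D)
      (IsScalarTower.toAlgHom k C D) (fun _ _ => Commute.all _ _)
  let φ₂ : A₂ ⊗[k] A₁ →ₐ[k] D := Algebra.TensorProduct.lift (IsScalarTower.toAlgHom k A₂ D)
      (IsScalarTower.toAlgHom k A₁ D) (fun _ _ => Commute.all _ _)
  refine FreeH1.free_h1 k C A₁ A₂ D A₃ K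
    ((IsLocalRing.maximalIdeal D).comap φ₁.toRingHom).primeCompl
    ((IsLocalRing.maximalIdeal D).comap φ₂.toRingHom).primeCompl ?_ ?_ hbij
  · letI : Algebra (A₂ ⊗[k] C) D := φ₁.toRingHom.toAlgebra
    exact StalkLoc.isLocalization_stalk G.hom G.hom (isPullback_tensor G G).flip z rfl rfl
      (by ext x; change φ₁ (x ⊗ₜ 1) = _; simp [φ₁]; rfl)
      (by ext x; change φ₁ (1 ⊗ₜ x) = _; simp [φ₁]; rfl)
  · letI : Algebra (A₂ ⊗[k] A₁) D := φ₂.toRingHom.toAlgebra
    exact StalkLoc.isLocalization_stalk G.hom G.hom (isPullback_mul_snd G).flip z rfl rfl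
      (by ext x; change φ₂ (x ⊗ₜ 1) = _; simp [φ₂]; rfl)
      (by ext x; change φ₂ (1 ⊗ₜ x) = _; simp [φ₂]; rfl)

/-- `H₁(L)` and `Ω` of the local rings of a group scheme over a field are free. -/
theorem free_stalk (y : G.left) :
    letI : Algebra k (G.left.presheaf.stalk y) := (stalkRingHom G.hom y).toAlgebra
    Module.Free (G.left.presheaf.stalk y) (Algebra.H1Cotangent k (G.left.presheaf.stalk y)) ∧
      Module.Free (G.left.presheaf.stalk y) Ω[G.left.presheaf.stalk y⁄k] := by
  let P : G.left → Prop := fun w =>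
    letI : Algebra k (G.left.presheaf.stalk w) := (stalkRingHom G.hom w).toAlgebra
    Module.Free (G.left.presheaf.stalk w) (Algebra.H1Cotangent k (G.left.presheaf.stalk w)) ∧
      Module.Free (G.left.presheaf.stalk w) Ω[G.left.presheaf.stalk w⁄k]
  have h1 : (μ[G]).left ((jmap G).left y) = y := by
    have h2 : (jmap G).left ≫ (μ[G]).left = 𝟙 G.left := by
      rw [← Over.comp_left, jmap_mul]; rfl
    rw [← Scheme.Hom.comp_apply, h2]; rfl
  have h3 : P ((μ[G]).left ((jmap G).left y)) := free_stalk_aux G y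
  rw [h1] at h3
  exact h3

end grp

end K268.FreeStalk
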