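import Groth.Agent.GrpSch.K268.LciFibre
import Groth.Agent.Localalg.ExtLift
import Groth.Agent.S0342
import Groth.Agent.LoccohA.GorBC

/-!
# Group schemes locally of finite type over a field are Gorenstein
-/

set_option autoImplicit false
set_option linter.style.haveILetI false
universe u
open CategoryTheory CategoryTheory.Limits AlgebraicGeometry
open MonoidalCategory CartesianMonoidalCategory MonObj GrpObj

namespace K268.GorField

open Groth.Agent.VarietyA.StalkBC

/-- A complete intersection quotient of a regular local ring is Gorenstein. -/
theorem isGorenstein_of_surjective {R A : Type u} [CommRing R] [CommRing A] [IsRegularLocalRing R]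
    [IsLocalRing A] (φ : R →+* A) (hφ : Function.Surjective φ) (h : Pi1.IsCompleteIntersection A) :
    LocCoh.IsGorensteinLocalRing A := by
  rw [Groth.Agent.S2842.isCompleteIntersection_iff_of_surjective φ hφ] at h
  obtain ⟨rs, hreg, hrs⟩ := h
  haveI : LocCoh.IsGorensteinLocalRing R := Groth.Agent.S0342.result R
  have hm : ∀ r ∈ rs, r ∈ IsLocalRing.maximalIdeal R := by
    intro r hr
    have h1 : r ∈ RingHom.ker φ := by
      rw [← hrs]
      exact Ideal.subset_span hr
    exact IsLocalRing.le_maximalIdeal (RingHom.ker_ne_top φ) h1
  have h2 := (Groth.Agent.Localalg.ExtLift.gorenstein_quotient (A := R) (fun i : Fin rs.length => rs.get i)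
    (by rw [List.ofFn_get]; exact hreg.toIsWeaklyRegular) (fun i => hm _ (List.get_mem _ _))).1
  have h3 : Ideal.span (Set.range fun i : Fin rs.length => rs.get i) = RingHom.ker φ := by
    rw [← hrs, Ideal.ofList]
    congr 1
    ext z
    simp [List.mem_iff_get]
  exact Groth.Agent.LoccohA.GorBC.isGorensteinLocalRing_of_ringEquiv
    ((Ideal.quotEquivOfEq h3).trans (RingHom.quotientKerEquivOfSurjective hφ)) h2

/-- A complete intersection local ring essentially of finite type over a field is Gorenstein. -/
theorem isGorenstein_of_essFiniteType (k A : Type u) [Field k] [CommRing A] [IsLocalRing A]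
    [Algebra k A] [Algebra.EssFiniteType k A] (h : Pi1.IsCompleteIntersection A) :
    LocCoh.IsGorensteinLocalRing A := by
  obtain ⟨n, Q, hQ, π, hπ⟩ := K562.FieldCI.exists_surjective_of_essFiniteType k A
  exact isGorenstein_of_surjective π.toRingHom hπ h

/-- The local rings of a group scheme locally of finite type over a field are Gorenstein. -/
theorem isGorenstein_stalk {k : Type u} [Field k] (G : Over (Spec (CommRingCat.of k)))
    [GrpObj G] [LocallyOfFiniteType G.hom] (y : G.left) :
    LocCoh.IsGorensteinLocalRing (G.left.presheaf.stalk y) := by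
  letI : Algebra k (G.left.presheaf.stalk y) := (stalkRingHom G.hom y).toAlgebra
  haveI : Algebra.EssFiniteType k (G.left.presheaf.stalk y) := by
    letI : G.left.Over (Spec (CommRingCat.of k)) := ⟨G.hom⟩
    haveI : LocallyOfFiniteType (G.left ↘ Spec (CommRingCat.of k)) :=
      inferInstanceAs (LocallyOfFiniteType G.hom)
    exact Groth.Agent.VarietyA.RegToSmooth.essFiniteType_stalkMap k G.left y
  exact isGorenstein_of_essFiniteType k _ (LciField.isCompleteIntersection_stalk G y)

/-- The local rings of the fibres of a group scheme locally of finite type are Gorenstein. -/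
theorem isGorenstein_fiberStalk {S : Scheme.{u}} (G : Over S) [GrpObj G] [LocallyOfFiniteType G.hom]
    (x : G.left) :
    LocCoh.IsGorensteinLocalRing ((G.hom.fiber (G.hom x)).presheaf.stalk (G.hom.asFiber x)) := by
  let s : S := G.hom x
  let G' : Over (Spec (CommRingCat.of (S.residueField s))) :=
    (Over.pullback (S.fromSpecResidueField s)).obj G
  letI : GrpObj G' := Functor.grpObjObj
  haveI : LocallyOfFiniteType G'.hom :=
    inferInstanceAs (LocallyOfFiniteType (G.hom.fiberToSpecResidueField s))
  exact isGorenstein_stalk G' (G.hom.asFiber x)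

end K268.GorField
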