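import Groth.Agent.GrpSch.K268.LciField
import Groth.Agent.Synt.K563.SchDict

/-!
# Flat group schemes locally of finite presentation are syntomic
-/

set_option autoImplicit false
set_option linter.style.haveILetI false
universe u
open CategoryTheory MonoidalCategory CartesianMonoidalCategory MonObj GrpObj AlgebraicGeometry

namespace K268.LciFibre

/-- The local rings of the fibres of a group scheme locally of finite type are complete intersections. -/
theorem isCI_fiberStalk {S : Scheme.{u}} (G : Over S) [GrpObj G] [LocallyOfFiniteType G.hom]
    (x : G.left) : Pi1.IsCompleteIntersection (CInt.fiberStalk G.hom x) := by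
  let s : S := G.hom x
  let G' : Over (Spec (CommRingCat.of (S.residueField s))) :=
    (Over.pullback (S.fromSpecResidueField s)).obj G
  letI : GrpObj G' := Functor.grpObjObj
  haveI : LocallyOfFiniteType G'.hom :=
    inferInstanceAs (LocallyOfFiniteType (G.hom.fiberToSpecResidueField s))
  exact K268.LciField.isCompleteIntersection_stalk G' (G.hom.asFiber x)

/-- A flat group scheme locally of finite presentation is a complete intersection morphism. -/
theorem isCIMorphism {S : Scheme.{u}} (G : Over S) [GrpObj G] [Flat G.hom]
    [LocallyOfFinitePresentation G.hom] : CInt.IsCIMorphism G.hom :=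
  ⟨inferInstance, inferInstance, isCI_fiberStalk G⟩

/-- A flat group scheme locally of finite presentation is syntomic. -/
theorem isSyntomicMor {S : Scheme.{u}} (G : Over S) [GrpObj G] [Flat G.hom]
    [LocallyOfFinitePresentation G.hom] : Synt.IsSyntomicMor G.hom :=
  (K563.SchDict.isSyntomicMor_iff _).2 (isCIMorphism G)

end K268.LciFibre
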