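import Groth.Agent.GrpSch.K268.FreeStalk
import Groth.Agent.GrpSch.K268.FreeCI
import Groth.Agent.VarietyA.RegToSmooth

/-!
# Group schemes locally of finite type over a field are local complete intersections
-/

set_option autoImplicit false
set_option linter.style.haveILetI false
universe u
open CategoryTheory CategoryTheory.Limits AlgebraicGeometry
open MonoidalCategory CartesianMonoidalCategory MonObj GrpObj

namespace K268.LciField

open Groth.Agent.VarietyA.StalkBC

/-- The local rings of a group scheme locally of finite type over a field are complete intersections. -/
theorem isCompleteIntersection_stalk {k : Type u} [Field k] (G : Over (Spec (CommRingCat.of k)))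
    [GrpObj G] [LocallyOfFiniteType G.hom] (y : G.left) :
    Pi1.IsCompleteIntersection (G.left.presheaf.stalk y) := by
  letI : Algebra k (G.left.presheaf.stalk y) := (stalkRingHom G.hom y).toAlgebra
  obtain ⟨h1, h2⟩ := FreeStalk.free_stalk G y
  haveI : Algebra.EssFiniteType k (G.left.presheaf.stalk y) := by
    letI : G.left.Over (Spec (CommRingCat.of k)) := ⟨G.hom⟩
    haveI : LocallyOfFiniteType (G.left ↘ Spec (CommRingCat.of k)) :=
      inferInstanceAs (LocallyOfFiniteType G.hom)
    exact Groth.Agent.VarietyA.RegToSmooth.essFiniteType_stalkMap k G.left y
  exact FreeCI.isCI_of_projective k _ inferInstance inferInstance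

end K268.LciField
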