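import Groth.Agent.Sga3C.HopfPowMain
import Groth.Agent.GrpSch.K267.DeligneSch
import Groth.Agent.Grpsch.AbEtale
import Groth.Agent.UnramA.FibreFlat
import Mathlib.AlgebraicGeometry.Morphisms.Etale
import Mathlib.AlgebraicGeometry.Morphisms.LocalFlatDescent

/-!
# Finite locally free group schemes of invertible order are étale

* `id_pow_finrank_eq_one` : a finite group scheme over a field is killed by its order (no commutativity; SGA3 VII_A 8.5);
* `formallyUnramified_of_pow_eq_one` : a group scheme lft over a field killed by an integer invertible in the field is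
  unramified;
* `etale_of_finrank_ne_zero`.
-/

set_option autoImplicit false
universe u

open CategoryTheory Limits MonoidalCategory CartesianMonoidalCategory MonObj GrpObj AlgebraicGeometry
open WithConv

namespace K268.OrderEtale

open Groth.Agent Groth.Agent.Grpsch.AbStalk Groth.Agent.Grpsch.AbEtale

section Field

variable {K : Type u} [Field K]

/-- Over an algebraically closed field a group scheme lft killed by an invertible integer is unramified. -/
theorem formallyUnramified_of_isAlgClosed [IsAlgClosed K] (A : Over (Spec (.of K))) [GrpObj A]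
    [LocallyOfFiniteType A.hom] {d : ℤ} (hd : (d : K) ≠ 0) (h : 𝟙 A ^ d = 1) : FormallyUnramified A.hom := by
  have h1 : ((𝟙 A ^ d).left.stalkMap (pt η[A])).hom.FormallyUnramified :=
    formallyUnramified_stalkMap_zpow hd
  have h0 : (𝟙 A ^ d).left = (toUnit A).left ≫ η[A].left := by
    rw [h, Hom.one_def, Over.comp_left]
  have h3 : (((toUnit A).left ≫ η[A].left).stalkMap (pt η[A])).hom.FormallyUnramified := by
    rw [← h0]; exact h1
  rw [Scheme.Hom.stalkMap_comp] at h3
  have h4 : ((((toUnit A).left.stalkMap (pt η[A])).hom).comp
      (η[A].left.stalkMap ((toUnit A).left (pt η[A]))).hom).FormallyUnramified := h3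
  have h2 : ((toUnit A).left.stalkMap (pt η[A])).hom.FormallyUnramified :=
    RingHom.FormallyUnramified.of_comp h4
  have : JacobsonSpace A.left := LocallyOfFiniteType.jacobsonSpace A.hom
  exact formallyUnramified_of_stalkMap (toUnit A).left
    (stalkMap_of_origin RingHom.FormallyUnramified.respectsIso (toUnit A) h2)

attribute [local instance] Functor.grpObjObj

/-- A group scheme lft over a field killed by an invertible natural number is unramified. -/
theorem formallyUnramified_of_pow_eq_one (A : Over (Spec (.of K))) [GrpObj A]
    [LocallyOfFiniteType A.hom] {d : ℕ} (hd : (d : K) ≠ 0) (h : 𝟙 A ^ d = 1) : FormallyUnramified A.hom := by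
  let Ω : Type u := AlgebraicClosure K
  let g : Spec (.of Ω) ⟶ Spec (.of K) := Spec.map (CommRingCat.ofHom <| algebraMap K Ω)
  apply MorphismProperty.of_pullback_snd_of_descendsAlong
    (Q := @Surjective ⊓ @Flat ⊓ @QuasiCompact) (g := g)
  · exact ⟨⟨inferInstance, inferInstance⟩, inferInstance⟩
  · let A' : Over (Spec (.of Ω)) := (Over.pullback g).obj A
    let gA : GrpObj A' := Functor.grpObjObj
    have h1 : LocallyOfFiniteType A'.hom := inferInstanceAs (LocallyOfFiniteType (pullback.snd A.hom g))
    have h2 : 𝟙 A' ^ (d : ℤ) = 1 := by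
      rw [zpow_natCast]
      have h3 := K267.DeligneSch.map_pow_one g A d
      rw [h, K267.DeligneSch.map_one_one] at h3
      exact h3.symm
    refine formallyUnramified_of_isAlgClosed A' (d := (d : ℤ)) ?_ h2
    rw [Int.cast_natCast, ← map_natCast (algebraMap K Ω)]
    exact fun h0 => hd ((map_eq_zero _).1 h0)

/-- A finite group scheme over a field is killed by its order. -/
theorem id_pow_finrank_eq_one (G : Over (Spec (CommRingCat.of K))) [GrpObj G] [IsFinite G.hom] (r : ℕ)
    (hr : ∀ s, Scheme.Hom.finrank G.hom s = r) : (𝟙 G) ^ r = 1 := by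
  have : IsAffine G.left := isAffine_of_isAffineHom G.hom
  have hsub : Subsingleton (Spec (CommRingCat.of K)) := inferInstanceAs (Subsingleton (PrimeSpectrum K))
  have hflat : Flat G.hom := inferInstance
  have hlfp : LocallyOfFinitePresentation G.hom := inferInstance
  have h2 : (hopfSpec (CommRingCat.of K)).essImage (Grp.mk G) := essImage_hopfSpec.2 this
  obtain ⟨C, ⟨e⟩⟩ := h2
  let C' : Type u := C.unop
  let G' : Over (Spec (CommRingCat.of K)) := (Spec (CommRingCat.of C')).asOver (Spec (CommRingCat.of K))
  let i : G' ≅ G := (Grp.forget _).mapIso e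
  have hi : IsMonHom i.hom := inferInstanceAs (IsMonHom (e.hom.hom.hom))
  have hi' : IsMonHom i.inv := inferInstanceAs (IsMonHom (e.inv.hom.hom))
  have hil : IsIso i.hom.left := inferInstanceAs (IsIso ((Over.forget _).map i.hom))
  have hil' : IsIso (X := Spec (CommRingCat.of C')) i.hom.left := hil
  obtain ⟨hfin, hproj, hrank⟩ := K267.DeligneSch.data_of_iso (R := K) (C := C') G.hom i.hom.left (Over.w i.hom) r hr
  have hfr : Module.finrank K C' = r := by
    have h3 := hrank ⊥
    rwa [Module.rankAtStalk_eq_finrank_of_free] at h3
  have hpow := Sga3C.HopfPow.id_pow_finrank K C'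
  rw [hfr] at hpow
  have key := K267.DeligneSch.id_pow_eq_one_spec (R := K) (C := C') r hpow
  have h3 : i.inv ≫ (((𝟙 G') ^ r) ≫ i.hom) = (𝟙 G) ^ r := by
    rw [MonObj.pow_comp, Category.id_comp, MonObj.comp_pow, Iso.inv_hom_id]
  rw [← h3]
  have h4 : (𝟙 G') ^ r = 1 := key
  rw [h4, MonObj.one_comp, MonObj.comp_one]

/-- A finite group scheme over a field whose order is invertible is unramified. -/
theorem formallyUnramified_of_finrank_ne_zero (G : Over (Spec (CommRingCat.of K))) [GrpObj G] [IsFinite G.hom]
    (s : Spec (CommRingCat.of K)) (h : (Scheme.Hom.finrank G.hom s : K) ≠ 0) : FormallyUnramified G.hom := by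
  have hsub : Subsingleton (Spec (CommRingCat.of K)) := inferInstanceAs (Subsingleton (PrimeSpectrum K))
  refine formallyUnramified_of_pow_eq_one G h (id_pow_finrank_eq_one G _ fun t => ?_)
  rw [Subsingleton.elim t s]

end Field

attribute [local instance] Functor.grpObjObj

/-- A finite locally free group scheme whose order is invertible on the base is étale. -/
theorem etale_of_finrank_ne_zero {S : Scheme.{u}} (G : Over S) [GrpObj G]
    [IsFinite G.hom] [Flat G.hom] [LocallyOfFinitePresentation G.hom]
    (h : ∀ s : S, (Scheme.Hom.finrank G.hom s : S.residueField s) ≠ 0) : Etale G.hom := by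
  have h1 : FormallyUnramified G.hom := by
    apply UnramA.FibreFlat.formallyUnramified_of_fiberToSpecResidueField
    intro s
    let f : Spec (CommRingCat.of (S.residueField s)) ⟶ S := S.fromSpecResidueField s
    let G' : Over (Spec (CommRingCat.of (S.residueField s))) := (Over.pullback f).obj G
    let gG : GrpObj G' := Functor.grpObjObj
    have h1 : IsFinite G'.hom := inferInstanceAs (IsFinite (pullback.snd G.hom f))
    refine formallyUnramified_of_finrank_ne_zero (K := S.residueField s) G' (IsLocalRing.closedPoint _) ?_
    have h2 : Scheme.Hom.finrank G'.hom (IsLocalRing.closedPoint _) = Scheme.Hom.finrank G.hom s := by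
      have := Scheme.Hom.finrank_pullback_snd G.hom f (IsLocalRing.closedPoint _)
      refine this.trans ?_
      congr 1
      exact Scheme.fromSpecResidueField_apply _ _
    rw [h2]
    exact h s
  exact Etale.of_formallyUnramified_of_flat G.hom

end K268.OrderEtale
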